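import Mathlib

set_option autoImplicit false
open TensorProduct

namespace Groth.Agent.DivAlgLib

universe u v

/-- If an invertible module receives a multilinear form from `N^n` whose values generate it, its
class is the `n`-th power of the class of `N`. -/
theorem mk_eq_pow {R : Type u} [CommRing R] (N : Type v) [AddCommGroup N] [Module R N]
    [Module.Invertible R N] (n : ℕ) : ∀ (P : Type max u v) [AddCommGroup P] [Module R P]
    [Module.Invertible R P] (φ : MultilinearMap R (fun _ : Fin n => N) P),
    Submodule.span R (Set.range φ) = ⊤ → CommRing.Pic.mk R P = CommRing.Pic.mk R N ^ n := by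
  induction n with
  | zero =>
    intro P _ _ _ φ hφ
    let g : R →ₗ[R] P := LinearMap.toSpanSingleton R P (φ 0)
    have hg : Function.Surjective g := by
      rw [← LinearMap.range_eq_top, LinearMap.range_toSpanSingleton, eq_top_iff, ← hφ]
      refine Submodule.span_mono ?_
      rintro _ ⟨x, rfl⟩
      simp [Subsingleton.elim x 0]
    rw [pow_zero, CommRing.Pic.mk_eq_one_iff]
    exact ⟨(LinearEquiv.ofBijective g (Module.Invertible.bijective_of_surjective hg)).symm⟩
  | succ n ih =>
    intro P _ _ _ φ hφ
    let e : Module.Dual R N ⊗[R] P ≃ₗ[R] (N →ₗ[R] P) := dualTensorHomEquiv R N P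
    haveI : Module.Invertible R (N →ₗ[R] P) := Module.Invertible.congr e
    let ψ : MultilinearMap R (fun _ : Fin n => N) (N →ₗ[R] P) :=
      { toFun := fun x =>
          { toFun := fun a => φ (Fin.cons a x)
            map_add' := fun a b => φ.cons_add x a b
            map_smul' := fun c a => φ.cons_smul x c a }
        map_update_add' := fun {inst} x i a b => LinearMap.ext fun c => by
          obtain rfl := Subsingleton.elim inst (instDecidableEqFin n)
          change φ (Fin.cons c _) = φ (Fin.cons c _) + φ (Fin.cons c _)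
          rw [Fin.cons_update, Fin.cons_update, Fin.cons_update, φ.map_update_add]
        map_update_smul' := fun {inst} x i r a => LinearMap.ext fun c => by
          obtain rfl := Subsingleton.elim inst (instDecidableEqFin n)
          change φ (Fin.cons c _) = r • φ (Fin.cons c _)
          rw [Fin.cons_update, Fin.cons_update, φ.map_update_smul] }
    let ev : N ⊗[R] (N →ₗ[R] P) →ₗ[R] P := TensorProduct.lift (LinearMap.id.flip)
    let S := Submodule.span R (Set.range ψ)
    have h1 : Function.Surjective (ev ∘ₗ S.subtype.lTensor N) := by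
      rw [← LinearMap.range_eq_top, eq_top_iff, ← hφ, Submodule.span_le]
      rintro _ ⟨x, rfl⟩
      refine ⟨x 0 ⊗ₜ[R] ⟨ψ (Fin.tail x), Submodule.subset_span ⟨_, rfl⟩⟩, ?_⟩
      simp [ev, ψ, Fin.cons_self_tail]
    have h2 : Function.Bijective ev :=
      Module.Invertible.bijective_of_surjective (Function.Surjective.of_comp
        (g := S.subtype.lTensor N) (by simpa only [LinearMap.coe_comp] using h1))
    have h3 : Function.Surjective (S.subtype.lTensor N) := by
      intro y
      obtain ⟨z, hz⟩ := h1 (ev y)
      exact ⟨z, h2.1 hz⟩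
    have h4 : S = ⊤ := by
      rw [← Submodule.range_subtype S, LinearMap.range_eq_top]
      exact (Module.Invertible.lTensor_surjective_iff (M := N)).mp h3
    have h5 := ih (N →ₗ[R] P) ψ h4
    have h6 : CommRing.Pic.mk R (N ⊗[R] (N →ₗ[R] P)) = CommRing.Pic.mk R P :=
      CommRing.Pic.mk_eq_mk_iff.mpr ⟨LinearEquiv.ofBijective ev h2⟩
    rw [← h6, CommRing.Pic.mk_tensor, h5, pow_succ']

/-- An alternating bilinear form on an invertible module vanishes. -/
theorem alt_bilin_eq_zero {R : Type*} [CommRing R] {N : Type*} [AddCommGroup N] [Module R N]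
    [Module.Invertible R N] {P : Type*} [AddCommGroup P] [Module R P] (B : N →ₗ[R] N →ₗ[R] P)
    (hB : ∀ a, B a a = 0) (a b : N) : B a b = 0 := by
  have comm : ∀ (φ : Module.Dual R N) (x y : N), φ x • y = φ y • x := fun φ x y => by
    have h := congrArg (TensorProduct.lift ((LinearMap.lsmul R N) ∘ₗ φ))
      (Module.Invertible.tmul_comm (R := R) (m₁ := x) (m₂ := y))
    simpa using h
  have key : ∀ (φ : Module.Dual R N) (x : N), (φ x) ^ 2 • B a b = 0 := by
    intro φ x
    have e1 : φ x • a = φ a • x := comm φ x a
    have e2 : φ x • b = φ b • x := comm φ x b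
    calc (φ x) ^ 2 • B a b = B (φ x • a) (φ x • b) := by
          simp [smul_smul, sq]
    _ = 0 := by rw [e1, e2]; simp [hB]
  let T := Ideal.span (Set.range fun p : Module.Dual R N × N => p.1 p.2)
  have hT : T = ⊤ := by
    obtain ⟨z, hz⟩ := (Module.Invertible.linearEquiv R N).surjective 1
    rw [Ideal.eq_top_iff_one, ← hz]
    clear hz
    have hev : ∀ (φ : Module.Dual R N) (x : N),
        Module.Invertible.linearEquiv R N (φ ⊗ₜ[R] x) = φ x := fun φ x => rfl
    induction z using TensorProduct.induction_on with
    | zero => simp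
    | tmul φ x => rw [hev]; exact Ideal.subset_span ⟨(φ, x), rfl⟩
    | add x y hx hy => rw [map_add]; exact T.add_mem hx hy
  let A : Ideal R := LinearMap.ker (LinearMap.toSpanSingleton R P (B a b))
  have hA : Ideal.span ((fun r => r ^ 2) '' Set.range fun p : Module.Dual R N × N => p.1 p.2) ≤ A := by
    rw [Ideal.span_le]
    rintro _ ⟨_, ⟨p, rfl⟩, rfl⟩
    exact key p.1 p.2
  rw [Ideal.span_pow_eq_top _ hT 2] at hA
  have h1 : (1 : R) ∈ A := hA Submodule.mem_top
  simpa [A] using h1

end Groth.Agent.DivAlgLib
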